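import Cfsg.Agent.H628.TF.Mix
import Cfsg.Agent.H181.TF.Mul
import Cfsg.Agent.H659.TF.Ump

/-!
# S5262: coordinates on `U`, and the mixed case (helper628)

`exists_coo` : the coordinates; `stMix`.
-/

set_option autoImplicit false
set_option linter.unusedSimpArgs false

namespace Cfsg.Agent.H628.TF

open Cfsg Cfsg.Agent.H745.TF Cfsg.Agent.H181.TF Cfsg.Agent.H756.PU

universe u v

section

variable {K : Type u} [Field K] {σ : K →+* K} {U : Type v} [Group U] (T : TF σ U)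

/-- the coordinates of an element -/
noncomputable def co (g : U) : Cd K := (Equiv.ofBijective T.el T.bij).symm g

theorem el_co (g : U) : T.el (co T g) = g := (Equiv.ofBijective T.el T.bij).apply_symm_apply g

theorem co_el (c : Cd K) : co T (T.el c) = c := (Equiv.ofBijective T.el T.bij).symm_apply_apply c

theorem co_of {g : U} {c : Cd K} (h : g = T.el c) : co T g = c := by rw [h, co_el]

variable (h2 : (2 : K) = 0) (hs : ∀ x, σ (σ x) = x ^ 2)
include h2 hs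

theorem co_mul (g h : U) : co T (g * h) = mul σ (co T g) (co T h) := by
  apply co_of
  rw [← el_mul T h2 hs, el_co, el_co]

theorem co_inv (g : U) : co T g⁻¹ = minv σ (co T g) := by
  apply co_of
  rw [← el_inv T h2 hs, el_co]

theorem co_one : co T 1 = ⟨0, 0, 0, 0, 0, 0, 0, 0, 0, 0, 0, 0⟩ := co_of T (el_one T h2 hs).symm

omit h2 hs

open Cfsg.Agent.H659.TF in
theorem x_co : (∀ t, co T (T.x1 t) = ⟨t, 0, 0, 0, 0, 0, 0, 0, 0, 0, 0, 0⟩) ∧
    (∀ p u, co T (T.x2 p u) = ⟨0, p, u, 0, 0, 0, 0, 0, 0, 0, 0, 0⟩) ∧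
    (∀ t, co T (T.x3 t) = ⟨0, 0, 0, t, 0, 0, 0, 0, 0, 0, 0, 0⟩) ∧
    (∀ p u, co T (T.x4 p u) = ⟨0, 0, 0, 0, p, u, 0, 0, 0, 0, 0, 0⟩) ∧
    (∀ t, co T (T.x5 t) = ⟨0, 0, 0, 0, 0, 0, t, 0, 0, 0, 0, 0⟩) ∧
    (∀ p u, co T (T.x6 p u) = ⟨0, 0, 0, 0, 0, 0, 0, p, u, 0, 0, 0⟩) ∧
    (∀ t, co T (T.x7 t) = ⟨0, 0, 0, 0, 0, 0, 0, 0, 0, t, 0, 0⟩) ∧
    (∀ p u, co T (T.x8 p u) = ⟨0, 0, 0, 0, 0, 0, 0, 0, 0, 0, p, u⟩) := by
  refine ⟨?_, ?_, ?_, ?_, ?_, ?_, ?_, ?_⟩ <;> intros <;> apply co_of <;>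
    simp only [TF.el, x1_zero T.rel, x2_zero T.rel, x3_zero T.rel, x4_zero T.rel, x5_zero T.rel, x6_zero T.rel,
      x7_zero T.rel, x8_zero T.rel, mul_one, one_mul]

open Cfsg.Agent.H659.TF in
theorem eq_prod (g : U) : g = T.x1 (co T g).a1 * T.x2 (co T g).a2 (co T g).b2 * T.x3 (co T g).a3 *
    T.x4 (co T g).a4 (co T g).b4 * T.x5 (co T g).a5 * T.x6 (co T g).a6 (co T g).b6 * T.x7 (co T g).a7 *
    T.x8 (co T g).a8 (co T g).b8 := (el_co T g).symm

include h2 hs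

/-- the subgroup given by a condition on the coordinates -/
noncomputable def sub (P : Cd K → Prop) (h1 : P ⟨0, 0, 0, 0, 0, 0, 0, 0, 0, 0, 0, 0⟩)
    (hm : ∀ c d, P c → P d → P (mul σ c d)) (hi : ∀ c, P c → P (minv σ c)) : Subgroup U where
  carrier := {g | P (co T g)}
  one_mem' := by
    show P (co T 1)
    rw [co_one T h2 hs]
    exact h1
  mul_mem' := fun {a b} ha hb => by
    show P (co T (a * b))
    rw [co_mul T h2 hs]
    exact hm _ _ ha hb
  inv_mem' := fun {a} ha => by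
    show P (co T a⁻¹)
    rw [co_inv T h2 hs]
    exact hi _ ha

theorem mem_QA (g : U) : g ∈ T.QA ↔ (co T g).a8 = 0 ∧ (co T g).b8 = 0 := by
  obtain ⟨c1, c2, c3, c4, c5, c6, c7, c8⟩ := x_co T
  constructor
  · have : T.QA ≤ sub T h2 hs (fun c => c.a8 = 0 ∧ c.b8 = 0) ⟨rfl, rfl⟩
        (by
          rintro c d ⟨ka8, kb8⟩ ⟨la8, lb8⟩
          simp only [mul, ka8, kb8, la8, lb8, map_zero, mul_zero, zero_mul, add_zero, zero_add, ne_eq,
            OfNat.ofNat_ne_zero, not_false_eq_true, zero_pow, and_self])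
        (by
          rintro c ⟨ka8, kb8⟩
          simp only [minv, ka8, kb8, map_zero, mul_zero, zero_mul, add_zero, zero_add, ne_eq,
            OfNat.ofNat_ne_zero, not_false_eq_true, zero_pow, and_self]) := by
      refine sup_le (sup_le (sup_le (sup_le (sup_le (sup_le ?_ ?_) ?_) ?_) ?_) ?_) ?_ <;> (apply (Subgroup.closure_le _).2)
      · rintro _ ⟨t, rfl⟩
        show _ ∧ _
        rw [c1]
        exact ⟨rfl, rfl⟩
      · rintro _ ⟨p, u, rfl⟩
        show _ ∧ _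
        rw [c2]
        exact ⟨rfl, rfl⟩
      · rintro _ ⟨t, rfl⟩
        show _ ∧ _
        rw [c3]
        exact ⟨rfl, rfl⟩
      · rintro _ ⟨p, u, rfl⟩
        show _ ∧ _
        rw [c4]
        exact ⟨rfl, rfl⟩
      · rintro _ ⟨t, rfl⟩
        show _ ∧ _
        rw [c5]
        exact ⟨rfl, rfl⟩
      · rintro _ ⟨p, u, rfl⟩
        show _ ∧ _
        rw [c6]
        exact ⟨rfl, rfl⟩
      · rintro _ ⟨t, rfl⟩
        show _ ∧ _
        rw [c7]
        exact ⟨rfl, rfl⟩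
    exact fun h => this h
  · rintro ⟨ka8, kb8⟩
    rw [eq_prod T g]
    simp only [ka8, kb8, Cfsg.Agent.H659.TF.x8_zero T.rel, mul_one, one_mul]
    exact mul_mem (mul_mem (mul_mem (mul_mem (mul_mem (mul_mem ((show T.X1 ≤ T.QA from (le_sup_left.trans (le_sup_left.trans (le_sup_left.trans (le_sup_left.trans (le_sup_left.trans le_sup_left)))))) (Subgroup.subset_closure ⟨_, rfl⟩))
      ((show T.X2 ≤ T.QA from (le_sup_right.trans (le_sup_left.trans (le_sup_left.trans (le_sup_left.trans (le_sup_left.trans le_sup_left)))))) (Subgroup.subset_closure ⟨_, _, rfl⟩)))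
      ((show T.X3 ≤ T.QA from (le_sup_right.trans (le_sup_left.trans (le_sup_left.trans (le_sup_left.trans le_sup_left))))) (Subgroup.subset_closure ⟨_, rfl⟩)))
      ((show T.X4 ≤ T.QA from (le_sup_right.trans (le_sup_left.trans (le_sup_left.trans le_sup_left)))) (Subgroup.subset_closure ⟨_, _, rfl⟩)))
      ((show T.X5 ≤ T.QA from (le_sup_right.trans (le_sup_left.trans le_sup_left))) (Subgroup.subset_closure ⟨_, rfl⟩)))
      ((show T.X6 ≤ T.QA from (le_sup_right.trans le_sup_left)) (Subgroup.subset_closure ⟨_, _, rfl⟩)))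
      ((show T.X7 ≤ T.QA from le_sup_right) (Subgroup.subset_closure ⟨_, rfl⟩))

theorem mem_QB (g : U) : g ∈ T.QB ↔ (co T g).a1 = 0 := by
  obtain ⟨c1, c2, c3, c4, c5, c6, c7, c8⟩ := x_co T
  constructor
  · have : T.QB ≤ sub T h2 hs (fun c => c.a1 = 0) rfl
        (by
          rintro c d ka1 la1
          simp only [mul, ka1, la1, map_zero, mul_zero, zero_mul, add_zero, zero_add, ne_eq,
            OfNat.ofNat_ne_zero, not_false_eq_true, zero_pow, and_self])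
        (by
          rintro c ka1
          simp only [minv, ka1, map_zero, mul_zero, zero_mul, add_zero, zero_add, ne_eq,
            OfNat.ofNat_ne_zero, not_false_eq_true, zero_pow, and_self]) := by
      refine sup_le (sup_le (sup_le (sup_le (sup_le (sup_le ?_ ?_) ?_) ?_) ?_) ?_) ?_ <;> (apply (Subgroup.closure_le _).2)
      · rintro _ ⟨p, u, rfl⟩
        show (co T _).a1 = 0
        rw [c2]
      · rintro _ ⟨t, rfl⟩
        show (co T _).a1 = 0
        rw [c3]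
      · rintro _ ⟨p, u, rfl⟩
        show (co T _).a1 = 0
        rw [c4]
      · rintro _ ⟨t, rfl⟩
        show (co T _).a1 = 0
        rw [c5]
      · rintro _ ⟨p, u, rfl⟩
        show (co T _).a1 = 0
        rw [c6]
      · rintro _ ⟨t, rfl⟩
        show (co T _).a1 = 0
        rw [c7]
      · rintro _ ⟨p, u, rfl⟩
        show (co T _).a1 = 0
        rw [c8]
    exact fun h => this h
  · rintro ka1
    rw [eq_prod T g]
    simp only [ka1, Cfsg.Agent.H659.TF.x1_zero T.rel, mul_one, one_mul]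
    exact mul_mem (mul_mem (mul_mem (mul_mem (mul_mem (mul_mem ((show T.X2 ≤ T.QB from (le_sup_left.trans (le_sup_left.trans (le_sup_left.trans (le_sup_left.trans (le_sup_left.trans le_sup_left)))))) (Subgroup.subset_closure ⟨_, _, rfl⟩))
      ((show T.X3 ≤ T.QB from (le_sup_right.trans (le_sup_left.trans (le_sup_left.trans (le_sup_left.trans (le_sup_left.trans le_sup_left)))))) (Subgroup.subset_closure ⟨_, rfl⟩)))
      ((show T.X4 ≤ T.QB from (le_sup_right.trans (le_sup_left.trans (le_sup_left.trans (le_sup_left.trans le_sup_left))))) (Subgroup.subset_closure ⟨_, _, rfl⟩)))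
      ((show T.X5 ≤ T.QB from (le_sup_right.trans (le_sup_left.trans (le_sup_left.trans le_sup_left)))) (Subgroup.subset_closure ⟨_, rfl⟩)))
      ((show T.X6 ≤ T.QB from (le_sup_right.trans (le_sup_left.trans le_sup_left))) (Subgroup.subset_closure ⟨_, _, rfl⟩)))
      ((show T.X7 ≤ T.QB from (le_sup_right.trans le_sup_left)) (Subgroup.subset_closure ⟨_, rfl⟩)))
      ((show T.X8 ≤ T.QB from le_sup_right) (Subgroup.subset_closure ⟨_, _, rfl⟩))

theorem mem_D (g : U) : g ∈ T.D ↔ (co T g).a1 = 0 ∧ (co T g).a2 = 0 ∧ (co T g).a6 = 0 ∧ (co T g).a7 = 0 ∧ (co T g).a8 = 0 ∧ (co T g).b8 = 0 := by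
  obtain ⟨c1, c2, c3, c4, c5, c6, c7, c8⟩ := x_co T
  constructor
  · have : T.D ≤ sub T h2 hs (fun c => c.a1 = 0 ∧ c.a2 = 0 ∧ c.a6 = 0 ∧ c.a7 = 0 ∧ c.a8 = 0 ∧ c.b8 = 0) ⟨rfl, rfl, rfl, rfl, rfl, rfl⟩
        (by
          rintro c d ⟨ka1, ka2, ka6, ka7, ka8, kb8⟩ ⟨la1, la2, la6, la7, la8, lb8⟩
          simp only [mul, ka1, ka2, ka6, ka7, ka8, kb8, la1, la2, la6, la7, la8, lb8, map_zero, mul_zero, zero_mul, add_zero, zero_add, ne_eq,
            OfNat.ofNat_ne_zero, not_false_eq_true, zero_pow, and_self])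
        (by
          rintro c ⟨ka1, ka2, ka6, ka7, ka8, kb8⟩
          simp only [minv, ka1, ka2, ka6, ka7, ka8, kb8, map_zero, mul_zero, zero_mul, add_zero, zero_add, ne_eq,
            OfNat.ofNat_ne_zero, not_false_eq_true, zero_pow, and_self]) := by
      refine sup_le (sup_le (sup_le (sup_le (sup_le ?_ ?_) ?_) ?_) ?_) ?_ <;> (apply (Subgroup.closure_le _).2)
      · rintro _ ⟨u, rfl⟩
        show _ ∧ _
        rw [c4]
        exact ⟨rfl, rfl, rfl, rfl, rfl, rfl⟩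
      · rintro _ ⟨u, rfl⟩
        show _ ∧ _
        rw [c6]
        exact ⟨rfl, rfl, rfl, rfl, rfl, rfl⟩
      · rintro _ ⟨t, rfl⟩
        show _ ∧ _
        rw [c5]
        exact ⟨rfl, rfl, rfl, rfl, rfl, rfl⟩
      · rintro _ ⟨t, rfl⟩
        show _ ∧ _
        rw [c3]
        exact ⟨rfl, rfl, rfl, rfl, rfl, rfl⟩
      · rintro _ ⟨u, rfl⟩
        show _ ∧ _
        rw [c2]
        exact ⟨rfl, rfl, rfl, rfl, rfl, rfl⟩
      · rintro _ ⟨p, u, rfl⟩
        show _ ∧ _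
        rw [c4]
        exact ⟨rfl, rfl, rfl, rfl, rfl, rfl⟩
    exact fun h => this h
  · rintro ⟨ka1, ka2, ka6, ka7, ka8, kb8⟩
    rw [eq_prod T g]
    simp only [ka1, ka2, ka6, ka7, ka8, kb8, Cfsg.Agent.H659.TF.x1_zero T.rel, Cfsg.Agent.H659.TF.x7_zero T.rel, Cfsg.Agent.H659.TF.x8_zero T.rel, mul_one, one_mul]
    exact mul_mem (mul_mem (mul_mem (mul_mem ((show T.Z2 ≤ T.D from (le_sup_right.trans le_sup_left)) (Subgroup.subset_closure ⟨_, rfl⟩))
      ((show T.X3 ≤ T.D from (le_sup_right.trans (le_sup_left.trans le_sup_left))) (Subgroup.subset_closure ⟨_, rfl⟩)))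
      ((show T.X4 ≤ T.D from le_sup_right) (Subgroup.subset_closure ⟨_, _, rfl⟩)))
      ((show T.X5 ≤ T.D from (le_sup_right.trans (le_sup_left.trans (le_sup_left.trans le_sup_left)))) (Subgroup.subset_closure ⟨_, rfl⟩)))
      ((show T.Z6 ≤ T.D from (le_sup_right.trans (le_sup_left.trans (le_sup_left.trans (le_sup_left.trans le_sup_left))))) (Subgroup.subset_closure ⟨_, rfl⟩))

theorem mem_E (g : U) : g ∈ T.E ↔ (co T g).a1 = 0 ∧ (co T g).a2 = 0 ∧ (co T g).a4 = 0 ∧ (co T g).a6 = 0 ∧ (co T g).a7 = 0 ∧ (co T g).a8 = 0 ∧ (co T g).b8 = 0 := by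
  obtain ⟨c1, c2, c3, c4, c5, c6, c7, c8⟩ := x_co T
  constructor
  · have : T.E ≤ sub T h2 hs (fun c => c.a1 = 0 ∧ c.a2 = 0 ∧ c.a4 = 0 ∧ c.a6 = 0 ∧ c.a7 = 0 ∧ c.a8 = 0 ∧ c.b8 = 0) ⟨rfl, rfl, rfl, rfl, rfl, rfl, rfl⟩
        (by
          rintro c d ⟨ka1, ka2, ka4, ka6, ka7, ka8, kb8⟩ ⟨la1, la2, la4, la6, la7, la8, lb8⟩
          simp only [mul, ka1, ka2, ka4, ka6, ka7, ka8, kb8, la1, la2, la4, la6, la7, la8, lb8, map_zero, mul_zero, zero_mul, add_zero, zero_add, ne_eq,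
            OfNat.ofNat_ne_zero, not_false_eq_true, zero_pow, and_self])
        (by
          rintro c ⟨ka1, ka2, ka4, ka6, ka7, ka8, kb8⟩
          simp only [minv, ka1, ka2, ka4, ka6, ka7, ka8, kb8, map_zero, mul_zero, zero_mul, add_zero, zero_add, ne_eq,
            OfNat.ofNat_ne_zero, not_false_eq_true, zero_pow, and_self]) := by
      refine sup_le (sup_le (sup_le (sup_le ?_ ?_) ?_) ?_) ?_ <;> (apply (Subgroup.closure_le _).2)
      · rintro _ ⟨u, rfl⟩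
        show _ ∧ _
        rw [c4]
        exact ⟨rfl, rfl, rfl, rfl, rfl, rfl, rfl⟩
      · rintro _ ⟨u, rfl⟩
        show _ ∧ _
        rw [c6]
        exact ⟨rfl, rfl, rfl, rfl, rfl, rfl, rfl⟩
      · rintro _ ⟨t, rfl⟩
        show _ ∧ _
        rw [c5]
        exact ⟨rfl, rfl, rfl, rfl, rfl, rfl, rfl⟩
      · rintro _ ⟨t, rfl⟩
        show _ ∧ _
        rw [c3]
        exact ⟨rfl, rfl, rfl, rfl, rfl, rfl, rfl⟩
      · rintro _ ⟨u, rfl⟩
        show _ ∧ _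
        rw [c2]
        exact ⟨rfl, rfl, rfl, rfl, rfl, rfl, rfl⟩
    exact fun h => this h
  · rintro ⟨ka1, ka2, ka4, ka6, ka7, ka8, kb8⟩
    rw [eq_prod T g]
    simp only [ka1, ka2, ka4, ka6, ka7, ka8, kb8, Cfsg.Agent.H659.TF.x1_zero T.rel, Cfsg.Agent.H659.TF.x7_zero T.rel, Cfsg.Agent.H659.TF.x8_zero T.rel, mul_one, one_mul]
    exact mul_mem (mul_mem (mul_mem (mul_mem ((show T.Z2 ≤ T.E from le_sup_right) (Subgroup.subset_closure ⟨_, rfl⟩))
      ((show T.X3 ≤ T.E from (le_sup_right.trans le_sup_left)) (Subgroup.subset_closure ⟨_, rfl⟩)))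
      ((show T.Z4 ≤ T.E from (le_sup_left.trans (le_sup_left.trans (le_sup_left.trans le_sup_left)))) (Subgroup.subset_closure ⟨_, rfl⟩)))
      ((show T.X5 ≤ T.E from (le_sup_right.trans (le_sup_left.trans le_sup_left))) (Subgroup.subset_closure ⟨_, rfl⟩)))
      ((show T.Z6 ≤ T.E from (le_sup_right.trans (le_sup_left.trans (le_sup_left.trans le_sup_left)))) (Subgroup.subset_closure ⟨_, rfl⟩))

theorem mem_Z4 (g : U) : g ∈ T.Z4 ↔ (co T g).a1 = 0 ∧ (co T g).a2 = 0 ∧ (co T g).b2 = 0 ∧ (co T g).a3 = 0 ∧ (co T g).a4 = 0 ∧ (co T g).a5 = 0 ∧ (co T g).a6 = 0 ∧ (co T g).b6 = 0 ∧ (co T g).a7 = 0 ∧ (co T g).a8 = 0 ∧ (co T g).b8 = 0 := by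
  obtain ⟨c1, c2, c3, c4, c5, c6, c7, c8⟩ := x_co T
  constructor
  · have : T.Z4 ≤ sub T h2 hs (fun c => c.a1 = 0 ∧ c.a2 = 0 ∧ c.b2 = 0 ∧ c.a3 = 0 ∧ c.a4 = 0 ∧ c.a5 = 0 ∧ c.a6 = 0 ∧ c.b6 = 0 ∧ c.a7 = 0 ∧ c.a8 = 0 ∧ c.b8 = 0) ⟨rfl, rfl, rfl, rfl, rfl, rfl, rfl, rfl, rfl, rfl, rfl⟩
        (by
          rintro c d ⟨ka1, ka2, kb2, ka3, ka4, ka5, ka6, kb6, ka7, ka8, kb8⟩ ⟨la1, la2, lb2, la3, la4, la5, la6, lb6, la7, la8, lb8⟩
          simp only [mul, ka1, ka2, kb2, ka3, ka4, ka5, ka6, kb6, ka7, ka8, kb8, la1, la2, lb2, la3, la4, la5, la6, lb6, la7, la8, lb8, map_zero, mul_zero, zero_mul, add_zero, zero_add, ne_eq,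
            OfNat.ofNat_ne_zero, not_false_eq_true, zero_pow, and_self])
        (by
          rintro c ⟨ka1, ka2, kb2, ka3, ka4, ka5, ka6, kb6, ka7, ka8, kb8⟩
          simp only [minv, ka1, ka2, kb2, ka3, ka4, ka5, ka6, kb6, ka7, ka8, kb8, map_zero, mul_zero, zero_mul, add_zero, zero_add, ne_eq,
            OfNat.ofNat_ne_zero, not_false_eq_true, zero_pow, and_self]) := by
      apply (Subgroup.closure_le _).2
      rintro _ ⟨u, rfl⟩
      show _ ∧ _
      rw [c4]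
      exact ⟨rfl, rfl, rfl, rfl, rfl, rfl, rfl, rfl, rfl, rfl, rfl⟩
    exact fun h => this h
  · rintro ⟨ka1, ka2, kb2, ka3, ka4, ka5, ka6, kb6, ka7, ka8, kb8⟩
    rw [eq_prod T g]
    simp only [ka1, ka2, kb2, ka3, ka4, ka5, ka6, kb6, ka7, ka8, kb8, Cfsg.Agent.H659.TF.x1_zero T.rel, Cfsg.Agent.H659.TF.x2_zero T.rel, Cfsg.Agent.H659.TF.x3_zero T.rel, Cfsg.Agent.H659.TF.x5_zero T.rel, Cfsg.Agent.H659.TF.x6_zero T.rel, Cfsg.Agent.H659.TF.x7_zero T.rel, Cfsg.Agent.H659.TF.x8_zero T.rel, mul_one, one_mul]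
    exact (show T.Z4 ≤ T.Z4 from le_rfl) (Subgroup.subset_closure ⟨_, rfl⟩)

end

/-- **coordinates** -/
theorem exists_coo {K : Type u} [Field K] {σ : K →+* K} {m : ℕ} (hK : HypK σ m) {U : Type v} [Group U] (T : TF σ U) :
    Nonempty (Coo σ T) :=
  ⟨{ co := co T
     mul' := co_mul T hK.two hK.sq
     one' := co_one T hK.two hK.sq
     inj := fun g h e => by rw [← el_co T g, ← el_co T h, e]
     surj := fun c => ⟨T.el c, co_el T c⟩
     mem_QA := mem_QA T hK.two hK.sq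
     mem_QB := mem_QB T hK.two hK.sq
     mem_D := mem_D T hK.two hK.sq
     mem_E := mem_E T hK.two hK.sq
     mem_Z := mem_Z4 T hK.two hK.sq }⟩

/-- **S5262: the mixed case.** -/
theorem stMix : StMix.{u, v} := by
  intro K _ σ m hK U _ T R Γ hE hZ hD hA hB
  obtain ⟨C⟩ := exists_coo hK T
  exact C.mix_of hK hE hZ hD hA hB

end Cfsg.Agent.H628.TF
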