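import Cfsg.Agent.H745.TF.Stmts2
import Cfsg.Agent.H181.TF.MulDef
import Cfsg.Agent.H732.PU.Chain

/-!
# S5262, the mixed case (helper628): the coordinate part

`le_E` : `R` a subgroup of the unipotent group `U` of `²F₄(q)` with `R ≰ QA`, `R ≰ QB`; `F ⊴ R` elementary abelian of the
order of `E`, centralised by an element of order `4`; then `F ≤ E`.
-/

set_option autoImplicit false
set_option linter.unusedSimpArgs false

namespace Cfsg.Agent.H628.TF

open Cfsg Cfsg.Agent.H745.TF Cfsg.Agent.H181.TF Cfsg.Agent.H756.PU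

universe u v

/-- coordinates on `U` -/
structure Coo {K : Type u} [Field K] (σ : K →+* K) {U : Type v} [Group U] (T : TF σ U) where
  co : U → Cd K
  mul' : ∀ g h, co (g * h) = mul σ (co g) (co h)
  one' : co 1 = ⟨0, 0, 0, 0, 0, 0, 0, 0, 0, 0, 0, 0⟩
  inj : Function.Injective co
  surj : Function.Surjective co
  mem_QA : ∀ g, g ∈ T.QA ↔ (co g).a8 = 0 ∧ (co g).b8 = 0
  mem_QB : ∀ g, g ∈ T.QB ↔ (co g).a1 = 0
  mem_D : ∀ g, g ∈ T.D ↔ (co g).a1 = 0 ∧ (co g).a2 = 0 ∧ (co g).a6 = 0 ∧ (co g).a7 = 0 ∧ (co g).a8 = 0 ∧ (co g).b8 = 0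
  mem_E : ∀ g, g ∈ T.E ↔ (co g).a1 = 0 ∧ (co g).a2 = 0 ∧ (co g).a4 = 0 ∧ (co g).a6 = 0 ∧ (co g).a7 = 0 ∧ (co g).a8 = 0 ∧
    (co g).b8 = 0
  mem_Z : ∀ g, g ∈ T.Z4 ↔ (co g).a1 = 0 ∧ (co g).a2 = 0 ∧ (co g).b2 = 0 ∧ (co g).a3 = 0 ∧ (co g).a4 = 0 ∧ (co g).a5 = 0 ∧
    (co g).a6 = 0 ∧ (co g).b6 = 0 ∧ (co g).a7 = 0 ∧ (co g).a8 = 0 ∧ (co g).b8 = 0

namespace Coo

variable {K : Type u} [Field K] {σ : K →+* K} {U : Type v} [Group U] {T : TF σ U} (C : Coo σ T)

theorem eqm {g h k l : U} (h0 : g * h = k * l) : mul σ (C.co g) (C.co h) = mul σ (C.co k) (C.co l) := by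
  rw [← C.mul', ← C.mul', h0]

/-- conjugation: `r * d = f * r` -/
theorem conj_low {r d f : U} (h : r * d = f * r) : (C.co d).a1 = (C.co f).a1 ∧ (C.co d).a8 = (C.co f).a8 := by
  have h0 := C.eqm h
  constructor
  · have h1 := congrArg Cd.a1 h0
    simp only [mul] at h1
    linear_combination h1
  · have h1 := congrArg Cd.a8 h0
    simp only [mul] at h1
    linear_combination h1

/-- relations for an element commuting with `e ∈ E` -/
theorem comm_E {f e : U} (he : e ∈ T.E) (h : f * e = e * f) :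
    (C.co f).a8 * (C.co e).b2 = 0 ∧
    σ (C.co f).a8 * (C.co e).a3 + ((C.co f).b8 + (C.co f).a8 * σ (C.co f).a8) * (C.co e).b2 = 0 ∧
    (C.co f).a8 * (C.co e).a5 + (C.co f).b8 * (C.co e).a3 + (σ (C.co f).b8 + (C.co f).a8 * (C.co f).b8 +
      (C.co f).a8 ^ 2 * σ (C.co f).a8) * (C.co e).b2 = 0 ∧
    (C.co f).a6 * (C.co e).a3 + (C.co f).a7 * (C.co e).b2 + (C.co f).a8 * σ (C.co e).a3 + (C.co f).b8 * σ (C.co e).b2 +
      (C.co f).a6 * (C.co f).a8 * (C.co e).b2 + σ (C.co f).a8 * 0 = (C.co e).a5 * (C.co f).a2 + (C.co e).b6 * (C.co f).a1 := by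
  obtain ⟨h1, h2, h4, h6, h7, h8, h8'⟩ := (C.mem_E e).1 he
  have h0 := C.eqm h
  refine ⟨?_, ?_, ?_, ?_⟩
  · have k := congrArg Cd.a3 h0
    simp only [mul, h1, h2, h4, h6, h7, h8, h8', map_zero, mul_zero, zero_mul, add_zero, zero_add, ne_eq,
      OfNat.ofNat_ne_zero, not_false_eq_true, zero_pow] at k
    linear_combination k
  · have k := congrArg Cd.a5 h0
    simp only [mul, h1, h2, h4, h6, h7, h8, h8', map_zero, mul_zero, zero_mul, add_zero, zero_add, ne_eq,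
      OfNat.ofNat_ne_zero, not_false_eq_true, zero_pow] at k
    linear_combination k
  · have k := congrArg Cd.b6 h0
    simp only [mul, h1, h2, h4, h6, h7, h8, h8', map_zero, mul_zero, zero_mul, add_zero, zero_add, ne_eq,
      OfNat.ofNat_ne_zero, not_false_eq_true, zero_pow] at k
    linear_combination k
  · have k := congrArg Cd.b4 h0
    simp only [mul, h1, h2, h4, h6, h7, h8, h8', map_zero, mul_zero, zero_mul, add_zero, zero_add, ne_eq,
      OfNat.ofNat_ne_zero, not_false_eq_true, zero_pow] at k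
    linear_combination k

/-- the conjugates of `e ∈ E`: `f * d = e * f` -/
theorem conj_E {f e d : U} (he : e ∈ T.E) (h : f * d = e * f) : d ∈ T.E ∧ (C.co d).b2 = (C.co e).b2 ∧
    (C.co d).a3 + (C.co f).a8 * (C.co e).b2 = (C.co e).a3 ∧
    (C.co d).a5 + σ (C.co f).a8 * (C.co d).a3 + ((C.co f).b8 + (C.co f).a8 * σ (C.co f).a8) * (C.co e).b2 = (C.co e).a5 ∧
    (C.co d).b6 + (C.co f).a8 * (C.co d).a5 + (C.co f).b8 * (C.co d).a3 + (σ (C.co f).b8 + (C.co f).a8 * (C.co f).b8 +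
      (C.co f).a8 ^ 2 * σ (C.co f).a8) * (C.co e).b2 = (C.co e).b6 := by
  obtain ⟨h1, h2, h4, h6, h7, h8, h8'⟩ := (C.mem_E e).1 he
  have h0 := C.eqm h
  have d1 : (C.co d).a1 = 0 := by
    have k := congrArg Cd.a1 h0
    simp only [mul, h1] at k
    linear_combination k
  have d8 : (C.co d).a8 = 0 := by
    have k := congrArg Cd.a8 h0
    simp only [mul, h8] at k
    linear_combination k
  have d2 : (C.co d).a2 = 0 := by
    have k := congrArg Cd.a2 h0
    simp only [mul, h2, h8, d1] at k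
    linear_combination k
  have d8' : (C.co d).b8 = 0 := by
    have k := congrArg Cd.b8 h0
    simp only [mul, h8, h8', d8, map_zero] at k
    linear_combination k
  have d6 : (C.co d).a6 = 0 := by
    have k := congrArg Cd.a6 h0
    simp only [mul, h6, h8, h8', d1, d2, map_zero] at k
    linear_combination k
  have d4 : (C.co d).a4 = 0 := by
    have k := congrArg Cd.a4 h0
    simp only [mul, h4, h8, h8', d1, d2, map_zero] at k
    linear_combination k
  have d7 : (C.co d).a7 = 0 := by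
    have k := congrArg Cd.a7 h0
    simp only [mul, h7, h8, h8', d1, d2, d6, map_zero] at k
    linear_combination k
  have e2 : (C.co d).b2 = (C.co e).b2 := by
    have k := congrArg Cd.b2 h0
    simp only [mul, h1, h2, h4, h6, h7, h8, h8', d1, d2, d4, d6, d7, d8, d8', map_zero, mul_zero, zero_mul, add_zero,
      zero_add, ne_eq, OfNat.ofNat_ne_zero, not_false_eq_true, zero_pow] at k
    linear_combination k
  refine ⟨(C.mem_E d).2 ⟨d1, d2, d4, d6, d7, d8, d8'⟩, e2, ?_, ?_, ?_⟩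
  · have k := congrArg Cd.a3 h0
    simp only [mul, h1, h2, h4, h6, h7, h8, h8', d1, d2, d4, d6, d7, d8, d8', e2, map_zero, mul_zero, zero_mul, add_zero,
      zero_add, ne_eq, OfNat.ofNat_ne_zero, not_false_eq_true, zero_pow] at k
    linear_combination k
  · have k := congrArg Cd.a5 h0
    simp only [mul, h1, h2, h4, h6, h7, h8, h8', d1, d2, d4, d6, d7, d8, d8', e2, map_zero, mul_zero, zero_mul, add_zero,
      zero_add, ne_eq, OfNat.ofNat_ne_zero, not_false_eq_true, zero_pow] at k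
    linear_combination k
  · have k := congrArg Cd.b6 h0
    simp only [mul, h1, h2, h4, h6, h7, h8, h8', d1, d2, d4, d6, d7, d8, d8', e2, map_zero, mul_zero, zero_mul, add_zero,
      zero_add, ne_eq, OfNat.ofNat_ne_zero, not_false_eq_true, zero_pow] at k
    linear_combination k

/-- the coordinates are additive on `E` -/
theorem add_E {e d : U} (he : e ∈ T.E) (hd : d ∈ T.E) : (C.co (e * d)).b2 = (C.co e).b2 + (C.co d).b2 ∧
    (C.co (e * d)).a3 = (C.co e).a3 + (C.co d).a3 ∧ (C.co (e * d)).b4 = (C.co e).b4 + (C.co d).b4 ∧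
    (C.co (e * d)).a5 = (C.co e).a5 + (C.co d).a5 ∧ (C.co (e * d)).b6 = (C.co e).b6 + (C.co d).b6 := by
  obtain ⟨h1, h2, h4, h6, h7, h8, h8'⟩ := (C.mem_E e).1 he
  obtain ⟨d1, d2, d4, d6, d7, d8, d8'⟩ := (C.mem_E d).1 hd
  rw [C.mul']
  refine ⟨?_, ?_, ?_, ?_, ?_⟩ <;>
    simp only [mul, h1, h2, h4, h6, h7, h8, h8', d1, d2, d4, d6, d7, d8, d8', map_zero, mul_zero, zero_mul, add_zero,
      ne_eq, OfNat.ofNat_ne_zero, not_false_eq_true, zero_pow]

/-- the commutator `c` of `e ∈ E` and `f` : `f * (e * c) = e * f` -/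
theorem comm_coord {f e c : U} (he : e ∈ T.E) (hc : c ∈ T.E) (h : f * (e * c) = e * f) : (C.co c).b2 = 0 ∧
    (C.co c).a3 + (C.co f).a8 * (C.co e).b2 = 0 ∧
    (C.co c).a5 + σ (C.co f).a8 * ((C.co e).a3 + (C.co c).a3) + ((C.co f).b8 + (C.co f).a8 * σ (C.co f).a8) *
      (C.co e).b2 = 0 ∧
    (C.co c).b6 + (C.co f).a8 * ((C.co e).a5 + (C.co c).a5) + (C.co f).b8 * ((C.co e).a3 + (C.co c).a3) +
      (σ (C.co f).b8 + (C.co f).a8 * (C.co f).b8 + (C.co f).a8 ^ 2 * σ (C.co f).a8) * (C.co e).b2 = 0 := by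
  obtain ⟨-, k2, k3, k5, k6⟩ := C.conj_E he h
  obtain ⟨a2, a3, a4, a5, a6⟩ := C.add_E he hc
  rw [a2] at k2
  rw [a3] at k3 k5 k6
  rw [a5] at k5 k6
  rw [a6] at k6
  refine ⟨?_, ?_, ?_, ?_⟩
  · linear_combination k2
  · linear_combination k3
  · linear_combination k5
  · linear_combination k6

/-- an element of `E` with given coordinates -/
theorem exists_E (b2 a3 b4 a5 b6 : K) : ∃ e ∈ T.E, C.co e = ⟨0, 0, b2, a3, 0, b4, a5, 0, b6, 0, 0, 0⟩ := by
  obtain ⟨e, he⟩ := C.surj ⟨0, 0, b2, a3, 0, b4, a5, 0, b6, 0, 0, 0⟩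
  refine ⟨e, ?_, he⟩
  rw [C.mem_E, he]
  exact ⟨rfl, rfl, rfl, rfl, rfl, rfl, rfl⟩

section steps

variable {R F : Subgroup U} (hER : T.E ≤ R) (hab : ∀ f ∈ F, ∀ g ∈ F, f * g = g * f)
  (hn : ∀ r ∈ R, ∀ f ∈ F, r⁻¹ * f * r ∈ F)

include C hER hn in
/-- commutators of `E` and `F` -/
theorem exists_comm {f : U} (hf : f ∈ F) {e : U} (he : e ∈ T.E) :
    ∃ c ∈ F, c ∈ T.E ∧ f * (e * c) = e * f := by
  have h1 : f * (f⁻¹ * e * f) = e * f := by group
  obtain ⟨h2, -⟩ := C.conj_E he h1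
  refine ⟨e⁻¹ * (f⁻¹ * e * f), ?_, mul_mem (inv_mem he) h2, by group⟩
  have h3 := hn e (hER he) _ (inv_mem hf)
  have h4 := mul_mem h3 hf
  rwa [show e⁻¹ * f⁻¹ * e * f = e⁻¹ * (f⁻¹ * e * f) by group] at h4

include hER hab hn in
/-- (i) -/
theorem a8_eq_zero {f : U} (hf : f ∈ F) : (C.co f).a8 = 0 := by
  by_contra hk
  obtain ⟨e, he, hce⟩ := C.exists_E 1 0 0 0 0
  obtain ⟨c, hcF, hcE, h⟩ := C.exists_comm hER hn hf he
  obtain ⟨k2, k3, -, -⟩ := C.comm_coord he hcE h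
  rw [hce] at k3
  obtain ⟨-, m5, -, -⟩ := C.comm_E hcE (hab f hf c hcF)
  rw [k2, mul_zero, add_zero] at m5
  have h3 : (C.co c).a3 = -(C.co f).a8 := by linear_combination k3
  rw [h3, mul_neg, neg_eq_zero, mul_eq_zero, map_eq_zero, or_self] at m5
  exact hk m5

variable (hF2 : ∀ f ∈ F, f * f = 1)

include hER hab hn in
/-- (ii) -/
theorem b8_eq_zero (two : (2 : K) = 0) {r : U} (hr : r ∈ R) (hr1 : (C.co r).a1 ≠ 0) {f : U} (hf : f ∈ F) :
    (C.co f).b8 = 0 := by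
  by_contra hv
  have f8 := C.a8_eq_zero hER hab hn hf
  -- `a1 = 0`
  have f1 : (C.co f).a1 = 0 := by
    obtain ⟨e, he, hce⟩ := C.exists_E 0 1 0 0 0
    obtain ⟨c, hcF, hcE, h⟩ := C.exists_comm hER hn hf he
    obtain ⟨k2, k3, k5, k6⟩ := C.comm_coord he hcE h
    simp only [hce, f8, map_zero, mul_zero, zero_mul, add_zero] at k3 k5 k6
    rw [k3, add_zero, mul_one] at k6
    obtain ⟨-, -, -, m4⟩ := C.comm_E hcE (hab f hf c hcF)
    simp only [f8, k2, k3, k5, map_zero, mul_zero, zero_mul, add_zero, zero_add] at m4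
    have h6 : (C.co c).b6 = -(C.co f).b8 := by linear_combination k6
    rw [h6] at m4
    exact (mul_eq_zero.1 m4.symm).resolve_left (neg_ne_zero.2 hv)
  have f2 : (C.co f).a2 = 0 := by
    obtain ⟨e, he, hce⟩ := C.exists_E 1 0 0 0 0
    obtain ⟨c, hcF, hcE, h⟩ := C.exists_comm hER hn hf he
    obtain ⟨k2, k3, k5, k6⟩ := C.comm_coord he hcE h
    simp only [hce, f8, map_zero, mul_zero, zero_mul, add_zero, mul_one] at k3 k5
    obtain ⟨-, -, -, m4⟩ := C.comm_E hcE (hab f hf c hcF)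
    simp only [f8, f1, k2, k3, map_zero, mul_zero, zero_mul, add_zero, zero_add] at m4
    have h5 : (C.co c).a5 = -(C.co f).b8 := by linear_combination k5
    rw [h5] at m4
    exact (mul_eq_zero.1 m4.symm).resolve_left (neg_ne_zero.2 hv)
  -- the conjugate by `r`
  set d := r⁻¹ * f * r with hd
  have hdF : d ∈ F := hn r hr f hf
  have h1 : r * d = f * r := by rw [hd]; group
  have h0 := C.eqm h1
  have d8 := C.a8_eq_zero hER hab hn hdF
  have d1 : (C.co d).a1 = 0 := (C.conj_low h1).1.trans f1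
  have d2 : (C.co d).a2 = 0 := by
    have k := congrArg Cd.a2 h0
    simp only [mul, f8, f2, d1] at k
    linear_combination k
  have d8' : (C.co d).b8 = (C.co f).b8 := by
    have k := congrArg Cd.b8 h0
    simp only [mul, f8, d8, map_zero] at k
    linear_combination k
  have d6 : (C.co d).a6 = (C.co f).a6 + (C.co f).b8 * (C.co r).a1 := by
    have k := congrArg Cd.a6 h0
    simp only [mul, f8, d1, d2, map_zero] at k
    linear_combination k
  have d4 : (C.co d).a4 = (C.co f).a4 + (C.co f).b8 * σ (C.co r).a1 := by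
    have k := congrArg Cd.a4 h0
    simp only [mul, f8, d1, d2, map_zero] at k
    linear_combination k
  have e2 : (C.co d).b2 = (C.co f).b2 + (C.co f).a4 * (C.co r).a1 + (C.co f).a6 * σ (C.co r).a1 +
      (C.co f).b8 * (C.co r).a1 * σ (C.co r).a1 := by
    have k := congrArg Cd.b2 h0
    simp only [mul, f8, f2, d1, d2, map_zero, mul_zero, zero_mul, add_zero, zero_add] at k
    linear_combination k
  have hcm := C.eqm (hab f hf d hdF)
  have k := congrArg Cd.a5 hcm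
  simp only [mul, f1, f2, f8, d1, d2, d8, d8', d6, d4, e2, map_zero, mul_zero, zero_mul, add_zero, zero_add, ne_eq,
    OfNat.ofNat_ne_zero, not_false_eq_true, zero_pow] at k
  have h5 : (C.co f).b8 * (C.co f).b8 * ((C.co r).a1 * σ (C.co r).a1) = 0 := by
    linear_combination k - (C.co f).b8 * σ (C.co r).a1 * (C.co f).a6 * two
  rcases mul_eq_zero.1 h5 with h6 | h6
  · exact hv (mul_self_eq_zero.1 h6)
  · rcases mul_eq_zero.1 h6 with h7 | h7
    · exact hr1 h7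
    · exact hr1 ((map_eq_zero σ).1 h7)

include hF2 in
/-- (iii), first part -/
theorem low_of_a1 {f : U} (hf : f ∈ F) (f8 : (C.co f).a8 = 0) (f8' : (C.co f).b8 = 0) (two : (2 : K) = 0)
    (f1 : (C.co f).a1 = 0) : (C.co f).a2 = 0 ∧ (C.co f).a6 = 0 ∧ (C.co f).a4 = 0 := by
  have h0 : mul σ (C.co f) (C.co f) = ⟨0, 0, 0, 0, 0, 0, 0, 0, 0, 0, 0, 0⟩ := by
    rw [← C.mul', hF2 f hf, C.one']
  have f2 : (C.co f).a2 = 0 := by
    have k := congrArg Cd.b2 h0
    simp only [mul, f1, f8, f8', map_zero, mul_zero, zero_mul, add_zero] at k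
    have h1 : (C.co f).a2 * σ (C.co f).a2 = 0 := by linear_combination k - (C.co f).b2 * two
    rcases mul_eq_zero.1 h1 with h2 | h2
    · exact h2
    · exact (map_eq_zero σ).1 h2
  have k5 := congrArg Cd.a5 h0
  have k6 := congrArg Cd.b6 h0
  have k4 := congrArg Cd.b4 h0
  simp only [mul, f1, f2, f8, f8', map_zero, mul_zero, zero_mul, add_zero, zero_add, ne_eq, OfNat.ofNat_ne_zero,
    not_false_eq_true, zero_pow] at k5 k6 k4
  have g5 : (C.co f).a6 * (C.co f).a4 = 0 := by linear_combination k5 - (C.co f).a5 * two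
  have g6 : (C.co f).a6 * σ (C.co f).a6 + (C.co f).a7 * (C.co f).a4 = 0 := by
    linear_combination k6 - (C.co f).b6 * two
  have f6 : (C.co f).a6 = 0 := by
    rcases mul_eq_zero.1 g5 with h1 | h1
    · exact h1
    · rw [h1, mul_zero, add_zero] at g6
      rcases mul_eq_zero.1 g6 with h2 | h2
      · exact h2
      · exact (map_eq_zero σ).1 h2
  refine ⟨f2, f6, ?_⟩
  rw [f6, zero_mul, zero_add] at g6
  rcases mul_eq_zero.1 g6 with h1 | h1
  · have g4 : (C.co f).a4 * σ (C.co f).a4 = 0 := by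
      rw [h1, f6] at k4
      simp only [map_zero, mul_zero, zero_mul, add_zero] at k4
      linear_combination k4 - (C.co f).b4 * two
    rcases mul_eq_zero.1 g4 with h2 | h2
    · exact h2
    · exact (map_eq_zero σ).1 h2
  · exact h1

include hn hF2 in
/-- (iii) -/
theorem a1_eq_zero (two : (2 : K) = 0) (h8 : ∀ f ∈ F, (C.co f).a8 = 0) (h8' : ∀ f ∈ F, (C.co f).b8 = 0) {r : U}
    (hr : r ∈ R) (hr1 : ¬ ((C.co r).a8 = 0 ∧ (C.co r).b8 = 0)) {f : U} (hf : f ∈ F) : (C.co f).a1 = 0 := by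
  by_contra ht
  set d := r⁻¹ * f * r with hd
  have hdF : d ∈ F := hn r hr f hf
  have h1 : r * d = f * r := by rw [hd]; group
  have h0 := C.eqm h1
  have d1 := (C.conj_low h1).1
  have hfd : f * d ∈ F := mul_mem hf hdF
  have g1 : (C.co (f * d)).a1 = 0 := by
    rw [C.mul']
    simp only [mul, d1]
    linear_combination (C.co f).a1 * two
  obtain ⟨g2, g6, -⟩ := C.low_of_a1 hF2 hfd (h8 _ hfd) (h8' _ hfd) two g1
  rw [C.mul'] at g2 g6
  have d2 : (C.co d).a2 + (C.co r).a8 * (C.co f).a1 = (C.co f).a2 := by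
    have k := congrArg Cd.a2 h0
    simp only [mul, h8 f hf, d1] at k
    linear_combination k
  have r8 : (C.co r).a8 = 0 := by
    simp only [mul, h8 f hf, zero_mul, add_zero] at g2
    have h2 : (C.co r).a8 * (C.co f).a1 = 0 := by
      linear_combination d2 + g2 - (C.co d).a2 * two
    exact (mul_eq_zero.1 h2).resolve_right ht
  apply hr1
  refine ⟨r8, ?_⟩
  have d6 : (C.co d).a6 + (C.co r).b8 * (C.co f).a1 = (C.co f).a6 := by
    have k := congrArg Cd.a6 h0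
    simp only [mul, h8 f hf, h8' f hf, d1, r8, map_zero] at k
    linear_combination k
  simp only [mul, h8 f hf, h8' f hf, map_zero, zero_mul, add_zero] at g6
  have h2 : (C.co r).b8 * (C.co f).a1 = 0 := by
    linear_combination d6 + g6 - (C.co d).a6 * two
  exact (mul_eq_zero.1 h2).resolve_right ht

/-- a subgroup is at most `|K|` times larger than the kernel of an additive function -/
theorem card_le_mul [Finite K] [Finite U] {A B : Subgroup U} (φ : U → K) (hadd : ∀ x ∈ A, ∀ y ∈ A, φ (x * y) = φ x + φ y)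
    (hker : ∀ x ∈ A, φ x = 0 → x ∈ B) : Nat.card A ≤ Nat.card B * Nat.card K := by
  classical
  let ψ : A →* Multiplicative K :=
    { toFun := fun x => Multiplicative.ofAdd (φ x)
      map_one' := by
        have h1 := hadd 1 (one_mem _) 1 (one_mem _)
        rw [one_mul] at h1
        have h2 : φ 1 = 0 := by linear_combination -h1
        show Multiplicative.ofAdd (φ 1) = 1
        rw [h2, ofAdd_zero]
      map_mul' := fun x y => by
        show Multiplicative.ofAdd (φ (x * y)) = _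
        rw [hadd x x.2 y y.2, ofAdd_add] }
  have h1 := ψ.ker.card_mul_index
  rw [Subgroup.index_ker] at h1
  have h2 : Nat.card ψ.range ≤ Nat.card K := by
    have := Nat.card_le_card_of_injective (Subtype.val : ψ.range → Multiplicative K) Subtype.val_injective
    exact this
  have h3 : Nat.card ψ.ker ≤ Nat.card B := by
    refine Nat.card_le_card_of_injective (fun x : ψ.ker => (⟨((x : A) : U), hker _ (x : A).2 ?_⟩ : B)) ?_
    · have h4 : ψ (x : A) = 1 := x.2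
      have h5 : Multiplicative.ofAdd (φ (x : A)) = Multiplicative.ofAdd 0 := h4
      exact Multiplicative.ofAdd.injective h5
    · intro x y hxy
      have hxy' : ((x : A) : U) = ((y : A) : U) := congrArg (fun b : B => (b : U)) hxy
      exact Subtype.ext (Subtype.ext hxy')
  rw [← h1]
  exact Nat.mul_le_mul h3 h2

include hab hF2 in
/-- (iv) -/
theorem a7_eq_zero [Finite K] [Finite U] (two : (2 : K) = 0) (hcard : Nat.card F = Nat.card T.E)
    (hlow : ∀ f ∈ F, (C.co f).a1 = 0 ∧ (C.co f).a2 = 0 ∧ (C.co f).a4 = 0 ∧ (C.co f).a6 = 0 ∧ (C.co f).a8 = 0 ∧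
      (C.co f).b8 = 0) {g : U} (hg : ∀ f ∈ F, g * f = f * g) (hg2 : g * g ≠ 1) {f : U} (hf : f ∈ F) : (C.co f).a7 = 0 := by
  by_contra hs
  obtain ⟨f1, f2, f4, f6, f8, f8'⟩ := hlow f hf
  -- `b2 (f) = 0`
  have fb : (C.co f).b2 = 0 := by
    have h0 : mul σ (C.co f) (C.co f) = ⟨0, 0, 0, 0, 0, 0, 0, 0, 0, 0, 0, 0⟩ := by
      rw [← C.mul', hF2 f hf, C.one']
    have k := congrArg Cd.b4 h0
    simp only [mul, f1, f2, f4, f6, f8, f8', map_zero, mul_zero, zero_mul, add_zero, zero_add, ne_eq,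
      OfNat.ofNat_ne_zero, not_false_eq_true, zero_pow] at k
    have h1 : (C.co f).a7 * (C.co f).b2 = 0 := by linear_combination k - (C.co f).b4 * two
    exact (mul_eq_zero.1 h1).resolve_left hs
  -- `F ∩ E ≤ E4`
  have hFE : ∀ e ∈ F, e ∈ T.E → (C.co e).b2 = 0 := by
    intro e he heE
    obtain ⟨-, -, -, m4⟩ := C.comm_E heE (hab f hf e he)
    simp only [f1, f2, f6, f8, f8', map_zero, mul_zero, zero_mul, add_zero, zero_add] at m4
    exact (mul_eq_zero.1 m4).resolve_left hs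
  let E4 : Subgroup U :=
    { carrier := {x | x ∈ T.E ∧ (C.co x).b2 = 0}
      one_mem' := ⟨one_mem _, by rw [C.one']⟩
      mul_mem' := fun {a b} ha hb => ⟨mul_mem ha.1 hb.1, by rw [(C.add_E ha.1 hb.1).1, ha.2, hb.2, add_zero]⟩
      inv_mem' := fun {a} ha => ⟨inv_mem ha.1, by
        have h1 := (C.add_E ha.1 (inv_mem ha.1)).1
        rw [mul_inv_cancel, C.one', ha.2, zero_add] at h1
        exact h1.symm⟩ }
  -- counting
  have hcF : Nat.card F ≤ Nat.card (F ⊓ T.E : Subgroup U) * Nat.card K := by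
    refine card_le_mul (fun x => (C.co x).a7) (fun x hx y hy => ?_) fun x hx h0 => ?_
    · obtain ⟨x1, x2, x4, x6, x8, x8'⟩ := hlow x hx
      obtain ⟨y1, y2, y4, y6, y8, y8'⟩ := hlow y hy
      show (C.co (x * y)).a7 = _
      rw [C.mul']
      simp only [mul, x1, x2, x4, x6, x8, x8', y1, y2, y4, y6, y8, y8', map_zero, mul_zero, zero_mul, add_zero]
    · obtain ⟨x1, x2, x4, x6, x8, x8'⟩ := hlow x hx
      exact ⟨hx, (C.mem_E x).2 ⟨x1, x2, x4, x6, h0, x8, x8'⟩⟩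
  have hcE : Nat.card E4 * Nat.card K ≤ Nat.card T.E := by
    rw [← Nat.card_prod]
    choose w hw hwc using fun u : K => C.exists_E u 0 0 0 0
    refine Nat.card_le_card_of_injective (fun z : E4 × K => (⟨z.1 * w z.2, mul_mem z.1.2.1 (hw z.2)⟩ : T.E)) ?_
    rintro ⟨a, u⟩ ⟨b, v⟩ hz
    have hz' : (a : U) * w u = b * w v := congrArg Subtype.val hz
    have h1 : (C.co ((a : U) * w u)).b2 = (C.co ((b : U) * w v)).b2 := by rw [hz']
    rw [(C.add_E a.2.1 (hw u)).1, (C.add_E b.2.1 (hw v)).1, a.2.2, b.2.2, hwc, hwc, zero_add, zero_add] at h1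
    have h2 : u = v := h1
    subst h2
    have h3 : (a : U) = b := mul_right_cancel hz'
    exact Prod.ext (Subtype.ext h3) rfl
  have hle : F ⊓ T.E ≤ E4 := fun x hx => ⟨hx.2, hFE x hx.1 hx.2⟩
  have hK : 0 < Nat.card K := Nat.card_pos
  have hge : Nat.card E4 ≤ Nat.card (F ⊓ T.E : Subgroup U) := by
    rw [hcard] at hcF
    exact Nat.le_of_mul_le_mul_right (hcE.trans hcF) hK
  have heq : F ⊓ T.E = E4 := Subgroup.eq_of_le_of_card_ge hle hge
  have hmem : ∀ a3 b4 a5 b6 : K, ∃ e ∈ F, e ∈ T.E ∧ C.co e = ⟨0, 0, 0, a3, 0, b4, a5, 0, b6, 0, 0, 0⟩ := by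
    intro a3 b4 a5 b6
    obtain ⟨e, he, hce⟩ := C.exists_E 0 a3 b4 a5 b6
    have h1 : e ∈ F ⊓ T.E := by
      rw [heq]
      exact ⟨he, by rw [hce]⟩
    exact ⟨e, h1.1, he, hce⟩
  -- the element `g`
  have g1 : (C.co g).a1 = 0 := by
    obtain ⟨e, heF, heE, hce⟩ := hmem 0 0 0 1
    obtain ⟨-, -, -, m4⟩ := C.comm_E heE (hg e heF)
    simp only [hce, map_zero, mul_zero, zero_mul, add_zero, one_mul, zero_add] at m4
    exact m4.symm
  obtain ⟨g2, g8⟩ : (C.co g).a2 = 0 ∧ (C.co g).a8 = 0 := by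
    obtain ⟨e, heF, heE, hce⟩ := hmem 0 0 1 0
    obtain ⟨-, -, m6, m4⟩ := C.comm_E heE (hg e heF)
    simp only [hce, map_zero, mul_zero, zero_mul, add_zero, one_mul, mul_one, zero_add] at m4 m6
    exact ⟨m4.symm, m6⟩
  obtain ⟨g6, g8'⟩ : (C.co g).a6 = 0 ∧ (C.co g).b8 = 0 := by
    obtain ⟨e, heF, heE, hce⟩ := hmem 1 0 0 0
    obtain ⟨-, -, m6, m4⟩ := C.comm_E heE (hg e heF)
    simp only [hce, g8, map_zero, map_one, mul_zero, zero_mul, add_zero, one_mul, mul_one, zero_add] at m4 m6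
    exact ⟨m4, m6⟩
  have h0 := C.eqm (hg f hf)
  have g4 : (C.co g).a4 = 0 := by
    have k := congrArg Cd.b6 h0
    simp only [mul, f1, f2, f4, f6, f8, f8', fb, g1, g2, g6, g8, g8', map_zero, mul_zero, zero_mul, add_zero, zero_add,
      ne_eq, OfNat.ofNat_ne_zero, not_false_eq_true, zero_pow] at k
    have h1 : (C.co f).a7 * (C.co g).a4 = 0 := by linear_combination -k
    exact (mul_eq_zero.1 h1).resolve_left hs
  have gb : (C.co g).b2 = 0 := by
    have k := congrArg Cd.b4 h0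
    simp only [mul, f1, f2, f4, f6, f8, f8', fb, g1, g2, g4, g6, g8, g8', map_zero, mul_zero, zero_mul, add_zero,
      zero_add, ne_eq, OfNat.ofNat_ne_zero, not_false_eq_true, zero_pow] at k
    have h1 : (C.co f).a7 * (C.co g).b2 = 0 := by linear_combination -k
    exact (mul_eq_zero.1 h1).resolve_left hs
  apply hg2
  apply C.inj
  rw [C.mul', C.one']
  have t : ∀ x : K, x + x = 0 := fun x => by linear_combination x * two
  apply Cd.ext <;>
    simp only [mul, g1, g2, g4, g6, g8, g8', gb, map_zero, mul_zero, zero_mul, add_zero, zero_add,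
      ne_eq, OfNat.ofNat_ne_zero, not_false_eq_true, zero_pow, t]

include C hER hab hn hF2 in
/-- **The coordinate part.** -/
theorem le_E [Finite K] [Finite U] (two : (2 : K) = 0) (hcard : Nat.card F = Nat.card T.E) (hA : ¬ R ≤ T.QA)
    (hB : ¬ R ≤ T.QB) {g : U} (hg : ∀ f ∈ F, g * f = f * g) (hg2 : g * g ≠ 1) : F ≤ T.E := by
  obtain ⟨r, hr, hrA⟩ := SetLike.not_le_iff_exists.1 hA
  obtain ⟨s, hs, hsB⟩ := SetLike.not_le_iff_exists.1 hB
  rw [C.mem_QA] at hrA
  rw [C.mem_QB] at hsB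
  have h8 : ∀ f ∈ F, (C.co f).a8 = 0 := fun f hf => C.a8_eq_zero hER hab hn hf
  have h8' : ∀ f ∈ F, (C.co f).b8 = 0 := fun f hf => C.b8_eq_zero hER hab hn two hs hsB hf
  have h1 : ∀ f ∈ F, (C.co f).a1 = 0 := fun f hf => C.a1_eq_zero hn hF2 two h8 h8' hr hrA hf
  have hlow : ∀ f ∈ F, (C.co f).a1 = 0 ∧ (C.co f).a2 = 0 ∧ (C.co f).a4 = 0 ∧ (C.co f).a6 = 0 ∧ (C.co f).a8 = 0 ∧
      (C.co f).b8 = 0 := by
    intro f hf
    obtain ⟨k2, k6, k4⟩ := C.low_of_a1 hF2 hf (h8 f hf) (h8' f hf) two (h1 f hf)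
    exact ⟨h1 f hf, k2, k4, k6, h8 f hf, h8' f hf⟩
  intro f hf
  obtain ⟨k1, k2, k4, k6, k8, k8'⟩ := hlow f hf
  exact (C.mem_E f).2 ⟨k1, k2, k4, k6, C.a7_eq_zero hab hF2 two hcard hlow hg hg2 hf, k8, k8'⟩

end steps

include C

theorem comm_EE (two : (2 : K) = 0) {e d : U} (he : e ∈ T.E) (hd : d ∈ T.E) : e * d = d * e ∧ e * e = 1 := by
  obtain ⟨h1, h2, h4, h6, h7, h8, h8'⟩ := (C.mem_E e).1 he
  obtain ⟨d1, d2, d4, d6, d7, d8, d8'⟩ := (C.mem_E d).1 hd
  have t : ∀ x : K, x + x = 0 := fun x => by linear_combination x * two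
  constructor
  · apply C.inj
    rw [C.mul', C.mul']
    apply Cd.ext <;>
      simp only [mul, h1, h2, h4, h6, h7, h8, h8', d1, d2, d4, d6, d7, d8, d8', map_zero, mul_zero, zero_mul, add_zero,
        zero_add, ne_eq, OfNat.ofNat_ne_zero, not_false_eq_true, zero_pow, add_comm]
  · apply C.inj
    rw [C.mul', C.one']
    apply Cd.ext <;>
      simp only [mul, h1, h2, h4, h6, h7, h8, h8', map_zero, mul_zero, zero_mul, add_zero, zero_add, ne_eq,
        OfNat.ofNat_ne_zero, not_false_eq_true, zero_pow, t]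

/-- an element of order `4` of `D` -/
theorem exists_D : ∃ x ∈ T.D, (∀ e ∈ T.E, x * e = e * x) ∧ x * x ≠ 1 := by
  obtain ⟨x, hx⟩ := C.surj ⟨0, 0, 0, 0, 1, 0, 0, 0, 0, 0, 0, 0⟩
  refine ⟨x, ?_, ?_, ?_⟩
  · rw [C.mem_D, hx]
    exact ⟨rfl, rfl, rfl, rfl, rfl, rfl⟩
  · intro e he
    obtain ⟨h1, h2, h4, h6, h7, h8, h8'⟩ := (C.mem_E e).1 he
    apply C.inj
    rw [C.mul', C.mul', hx]
    apply Cd.ext <;>
      simp only [mul, h1, h2, h4, h6, h7, h8, h8', map_zero, map_one, mul_zero, zero_mul, add_zero, zero_add, ne_eq,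
        OfNat.ofNat_ne_zero, not_false_eq_true, zero_pow, add_comm]
  · intro h
    have h0 := congrArg C.co h
    rw [C.mul', C.one', hx] at h0
    have k := congrArg Cd.b4 h0
    simp only [mul, map_zero, map_one, mul_zero, zero_mul, add_zero, zero_add, mul_one, ne_eq,
      OfNat.ofNat_ne_zero, not_false_eq_true, zero_pow] at k
    exact one_ne_zero k

theorem Z_central {z : U} (hz : z ∈ T.Z4) (g : U) : g * z = z * g := by
  obtain ⟨z1, z2, z2', z3, z4, z5, z6, z6', z7, z8, z8'⟩ := (C.mem_Z z).1 hz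
  apply C.inj
  rw [C.mul', C.mul']
  apply Cd.ext <;>
    simp only [mul, z1, z2, z2', z3, z4, z5, z6, z6', z7, z8, z8', map_zero, mul_zero, zero_mul, add_zero, zero_add,
      ne_eq, OfNat.ofNat_ne_zero, not_false_eq_true, zero_pow, add_comm]

theorem E_le_D : T.E ≤ T.D := by
  intro x hx
  obtain ⟨h1, h2, h4, h6, h7, h8, h8'⟩ := (C.mem_E x).1 hx
  exact (C.mem_D x).2 ⟨h1, h2, h6, h7, h8, h8'⟩

theorem D_le_QA : T.D ≤ T.QA := by
  intro x hx
  obtain ⟨h1, h2, h6, h7, h8, h8'⟩ := (C.mem_D x).1 hx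
  exact (C.mem_QA x).2 ⟨h8, h8'⟩

theorem Z_le_E : T.Z4 ≤ T.E := by
  intro z hz
  obtain ⟨z1, z2, z2', z3, z4, z5, z6, z6', z7, z8, z8'⟩ := (C.mem_Z z).1 hz
  exact (C.mem_E z).2 ⟨z1, z2, z4, z6, z7, z8, z8'⟩

/-- `QA` is normal -/
theorem QA_conj {f r : U} (hf : f ∈ T.QA) : r⁻¹ * f * r ∈ T.QA := by
  obtain ⟨f8, f8'⟩ := (C.mem_QA f).1 hf
  have h1 : r * (r⁻¹ * f * r) = f * r := by group
  have h2 := (C.conj_low h1).2
  have h0 := C.eqm h1
  refine (C.mem_QA _).2 ⟨h2.trans f8, ?_⟩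
  have k := congrArg Cd.b8 h0
  simp only [mul, f8, f8', h2, map_zero, mul_zero, zero_mul, add_zero, zero_add] at k
  linear_combination k

/-- the elements of `QA` centralise `E/Z` -/
theorem QA_E (two : (2 : K) = 0) {x e : U} (hx : x ∈ T.QA) (he : e ∈ T.E) : x * e * x⁻¹ * e⁻¹ ∈ T.Z4 := by
  have h1 : x⁻¹ * (x * e * x⁻¹) = e * x⁻¹ := by group
  obtain ⟨g8, g8'⟩ := (C.mem_QA _).1 (inv_mem hx)
  obtain ⟨hd, k2, k3, k5, k6⟩ := C.conj_E he h1
  rw [g8, zero_mul, add_zero] at k3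
  simp only [g8, g8', map_zero, zero_mul, mul_zero, add_zero] at k5 k6
  have he' : e⁻¹ = e := inv_eq_of_mul_eq_one_left (C.comm_EE two he he).2
  rw [he']
  have hm := mul_mem hd he
  obtain ⟨a2, a3, -, a5, a6⟩ := C.add_E hd he
  have t : ∀ x : K, x + x = 0 := fun x => by linear_combination x * two
  obtain ⟨m1, m2, m4, m6, m7, m8, m8'⟩ := (C.mem_E _).1 hm
  refine (C.mem_Z _).2 ⟨m1, m2, ?_, ?_, m4, ?_, m6, ?_, m7, m8, m8'⟩
  · rw [a2, k2, t]
  · rw [a3, k3, t]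
  · rw [a5, k5, t]
  · rw [a6, k6, t]

/-- and no others -/
theorem QA_of {x : U} (h : ∀ e ∈ T.E, x * e * x⁻¹ * e⁻¹ ∈ T.Z4) : x ∈ T.QA := by
  obtain ⟨e, he, hce⟩ := C.exists_E 1 0 0 0 0
  have h1 : x⁻¹ * (x * e * x⁻¹) = e * x⁻¹ := by group
  obtain ⟨hd, k2, k3, k5, k6⟩ := C.conj_E he h1
  obtain ⟨z1, z2, z2', z3, z4, z5, z6, z6', z7, z8, z8'⟩ := (C.mem_Z _).1 (h e he)
  obtain ⟨a2, a3, -, a5, a6⟩ := C.add_E (C.Z_le_E (h e he)) he
  rw [inv_mul_cancel_right] at a2 a3 a5 a6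
  have hce3 : (C.co e).a3 = 0 := by rw [hce]
  have hce2 : (C.co e).b2 = 1 := by rw [hce]
  have hce5 : (C.co e).a5 = 0 := by rw [hce]
  rw [a3, z3, hce3, hce2, zero_add, zero_add, mul_one] at k3
  rw [a5, a3, z5, z3, hce5, hce3, hce2, k3] at k5
  simp only [map_zero, mul_zero, zero_mul, add_zero, zero_add, mul_one] at k5
  have h2 : x⁻¹ ∈ T.QA := (C.mem_QA _).2 ⟨k3, k5⟩
  have h3 := inv_mem h2
  rwa [inv_inv] at h3

/-- `QA / E` is abelian -/
theorem QA_comm {a b : U} (ha : a ∈ T.QA) (hb : b ∈ T.QA) : a * b * a⁻¹ * b⁻¹ ∈ T.E := by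
  obtain ⟨a8, a8'⟩ := (C.mem_QA a).1 ha
  obtain ⟨b8, b8'⟩ := (C.mem_QA b).1 hb
  set c := a * b * a⁻¹ * b⁻¹ with hc
  have hcQ : c ∈ T.QA := mul_mem (mul_mem (mul_mem ha hb) (inv_mem ha)) (inv_mem hb)
  obtain ⟨c8, c8'⟩ := (C.mem_QA c).1 hcQ
  have h0 : mul σ (C.co a) (C.co b) = mul σ (C.co c) (mul σ (C.co b) (C.co a)) := by
    rw [← C.mul', ← C.mul' b a, ← C.mul']
    congr 1
    rw [hc]
    group
  have c1 : (C.co c).a1 = 0 := by
    have k := congrArg Cd.a1 h0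
    simp only [mul] at k
    linear_combination -k
  have c2 : (C.co c).a2 = 0 := by
    have k := congrArg Cd.a2 h0
    simp only [mul, a8, b8, c8] at k
    linear_combination -k
  have c4 : (C.co c).a4 = 0 := by
    have k := congrArg Cd.a4 h0
    simp only [mul, a8, b8, c8, a8', b8', c8'] at k
    linear_combination -k
  have c6 : (C.co c).a6 = 0 := by
    have k := congrArg Cd.a6 h0
    simp only [mul, a8, b8, c8, a8', b8', c8', map_zero] at k
    linear_combination -k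
  have c7 : (C.co c).a7 = 0 := by
    have k := congrArg Cd.a7 h0
    simp only [mul, a8, b8, c8, a8', b8', c8', map_zero] at k
    linear_combination -k
  exact (C.mem_E c).2 ⟨c1, c2, c4, c6, c7, c8, c8'⟩

/-! ### the mixed case -/

omit [Field K] [Group U] C in
/-- normalizers grow: `N_Q(R) ≤ R` implies `Q ≤ R` -/
theorem le_of_normalizer {G : Type v} [Group G] [Finite G] {p : ℕ} [Fact p.Prime] (hG : IsPGroup p G)
    {Q R : Subgroup G} (hQ : Q.Normal) (h : ∀ x ∈ Q, x ∈ Subgroup.normalizer (R : Set G) → x ∈ R) : Q ≤ R := by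
  by_contra hne
  set H := R ⊔ Q with hH
  have hHp : IsPGroup p H := hG.to_subgroup H
  have hnil : Group.IsNilpotent H := hHp.isNilpotent
  have hlt : R.subgroupOf H < ⊤ := by
    rw [lt_top_iff_ne_top, Ne, Subgroup.subgroupOf_eq_top]
    intro h1
    exact hne (le_sup_right.trans h1)
  have h2 := Group.normalizerCondition_of_isNilpotent (R.subgroupOf H) hlt
  obtain ⟨x, hx, hxR⟩ := SetLike.exists_of_lt h2
  rw [Subgroup.mem_subgroupOf] at hxR
  have hxn : (x : G) ∈ Subgroup.normalizer (R : Set G) := by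
    rw [Subgroup.mem_normalizer_iff] at hx ⊢
    intro y
    constructor
    · intro hy
      have h3 := (hx ⟨y, (le_sup_left : R ≤ H) hy⟩).1 (Subgroup.mem_subgroupOf.2 hy)
      exact Subgroup.mem_subgroupOf.1 h3
    · intro hy
      have hyH : y ∈ H := by
        have h4 : (x : G) * y * (x : G)⁻¹ ∈ H := (le_sup_left : R ≤ H) hy
        have h5 := mul_mem (mul_mem (inv_mem x.2) h4) x.2
        rwa [show (x : G)⁻¹ * ((x : G) * y * (x : G)⁻¹) * x = y by group] at h5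
      have h3 := (hx ⟨y, hyH⟩).2 (Subgroup.mem_subgroupOf.2 hy)
      exact Subgroup.mem_subgroupOf.1 h3
  have hxH : (x : G) ∈ R ⊔ Q := x.2
  have hxH' : (x : G) ∈ ((R ⊔ Q : Subgroup G) : Set G) := hxH
  rw [Subgroup.mul_normal] at hxH'
  obtain ⟨r, hr, q, hq, hrq⟩ := hxH'
  have hqn : q ∈ Subgroup.normalizer (R : Set G) := by
    have h3 := mul_mem (inv_mem ((Subgroup.le_normalizer : R ≤ _) hr)) hxn
    rwa [← hrq, show r⁻¹ * (r * q) = q by group] at h3
  exact hxR (hrq ▸ mul_mem hr (h q hq hqn))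

/-- **The mixed case.** -/
theorem mix_of {m : ℕ} (hK : HypK σ m) {R : Subgroup U} {Γ : Subgroup (MulAut R)} (hE : Ess (⊤ : Subgroup U) R 2 Γ)
    (hZ : Inv Γ T.Z4) (hD : T.D ≤ R) (hA : ¬ R ≤ T.QA) (hB : ¬ R ≤ T.QB) : T.QA ≤ R ∧ Inv Γ T.QA := by
  have := hK.fin
  have hfin : Finite U := by
    have := hE.fin
    exact Finite.of_equiv _ (Subgroup.topEquiv (G := U)).toEquiv
  have two := hK.two
  have hER : T.E ≤ R := C.E_le_D.trans hD
  have hinv : ∀ γ ∈ Γ, γ⁻¹ ∈ Γ := fun γ hγ => inv_mem hγ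
  have iE : Inv Γ T.E := by
    refine ⟨hER, fun γ hγ => ?_⟩
    let F : Subgroup U := ((T.E.subgroupOf R).map γ.toMonoidHom).map R.subtype
    have hF : ∀ x, x ∈ F ↔ ∃ e : R, (e : U) ∈ T.E ∧ ((γ e : R) : U) = x := by
      intro x
      constructor
      · rintro ⟨_, ⟨e, he, rfl⟩, rfl⟩
        exact ⟨e, Subgroup.mem_subgroupOf.1 he, rfl⟩
      · rintro ⟨e, he, rfl⟩
        exact ⟨γ e, ⟨e, Subgroup.mem_subgroupOf.2 he, rfl⟩, rfl⟩
    obtain ⟨x, hxD, hxE, hx2⟩ := C.exists_D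
    have key : F ≤ T.E := by
      refine C.le_E (R := R) hER ?_ ?_ ?_ two ?_ hA hB (g := ((γ ⟨x, hD hxD⟩ : R) : U)) ?_ ?_
      · intro f hf g hg
        obtain ⟨e, he, rfl⟩ := (hF f).1 hf
        obtain ⟨d, hd, rfl⟩ := (hF g).1 hg
        have h1 : e * d = d * e := Subtype.ext (C.comm_EE two he hd).1
        have h2 := congrArg γ h1
        rw [map_mul, map_mul] at h2
        exact congrArg Subtype.val h2
      · intro r hr f hf
        obtain ⟨e, he, rfl⟩ := (hF f).1 hf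
        refine (hF _).2 ⟨(γ⁻¹ ⟨r, hr⟩)⁻¹ * e * γ⁻¹ ⟨r, hr⟩, ?_, ?_⟩
        · have h1 : (((γ⁻¹ ⟨r, hr⟩ : R)) : U) * ((((γ⁻¹ ⟨r, hr⟩ : R)) : U)⁻¹ * (e : U) * ((γ⁻¹ ⟨r, hr⟩ : R) : U)) =
              (e : U) * ((γ⁻¹ ⟨r, hr⟩ : R) : U) := by group
          exact (C.conj_E he h1).1
        · rw [map_mul, map_mul, map_inv, MulAut.apply_inv_self]
          rfl
      · intro f hf
        obtain ⟨e, he, rfl⟩ := (hF f).1 hf
        have h1 : e * e = 1 := Subtype.ext (C.comm_EE two he he).2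
        have h2 := congrArg γ h1
        rw [map_mul, map_one] at h2
        exact congrArg Subtype.val h2
      · rw [Subgroup.card_map_of_injective R.subtype_injective, Subgroup.card_map_of_injective γ.injective]
        exact Nat.card_congr (Subgroup.subgroupOfEquivOfLe hER).toEquiv
      · intro f hf
        obtain ⟨e, he, rfl⟩ := (hF f).1 hf
        have h1 : (⟨x, hD hxD⟩ : R) * e = e * ⟨x, hD hxD⟩ := Subtype.ext (hxE e he)
        have h2 := congrArg γ h1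
        rw [map_mul, map_mul] at h2
        exact congrArg Subtype.val h2
      · intro h1
        apply hx2
        have h2 : γ (⟨x, hD hxD⟩ * ⟨x, hD hxD⟩) = γ 1 := by
          rw [map_mul, map_one]
          exact Subtype.ext h1
        exact congrArg Subtype.val (γ.injective h2)
    intro e he
    exact key ((hF _).2 ⟨e, he, rfl⟩)
  have iM : Inv Γ (R ⊓ T.QA) := by
    refine ⟨inf_le_left, fun γ hγ x hx => ⟨(γ x).2, ?_⟩⟩
    refine C.QA_of fun e he => ?_
    have h1 := iE.2 _ (hinv γ hγ) ⟨e, hER he⟩ he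
    have h2 := C.QA_E two hx.2 h1
    have h3 := hZ.2 γ hγ (x * γ⁻¹ ⟨e, hER he⟩ * x⁻¹ * (γ⁻¹ ⟨e, hER he⟩)⁻¹) h2
    rw [map_mul, map_mul, map_mul, map_inv, map_inv, MulAut.apply_inv_self] at h3
    exact h3
  have hUp : IsPGroup 2 U := by
    have h1 := hE.pgr
    exact h1.of_equiv (Subgroup.topEquiv (G := U))
  have hQn : T.QA.Normal := ⟨fun n hn g => by
    have h1 := C.QA_conj (r := g⁻¹) hn
    rwa [inv_inv] at h1⟩
  have : Fact (Nat.Prime 2) := ⟨Nat.prime_two⟩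
  have hQR : T.QA ≤ R := by
    refine le_of_normalizer hUp hQn fun x hx hxn => ?_
    refine Cfsg.Agent.H732.PU.stChain hE T.Z4 T.E (R ⊓ T.QA) hZ iE iM C.Z_le_E (le_inf hER (C.E_le_D.trans C.D_le_QA))
      (T.QA ⊓ Subgroup.normalizer (R : Set U)) le_top ?_ ?_ ?_ ?_ ⟨hx, hxn⟩
    · rintro a ⟨ha, han⟩ r hr
      refine ⟨R.mul_mem ((Subgroup.mem_normalizer_iff.1 han r).1 hr) (R.inv_mem hr), ?_⟩
      have h1 := hQn.conj_mem a⁻¹ (inv_mem ha) r
      rw [show a * r * a⁻¹ * r⁻¹ = a * (r * a⁻¹ * r⁻¹) by group]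
      exact mul_mem ha h1
    · rintro a ⟨ha, -⟩ b ⟨-, hb⟩
      exact C.QA_comm ha hb
    · rintro a ⟨ha, -⟩ e he
      exact C.QA_E two ha he
    · rintro a - z hz
      exact C.Z_central hz a
  refine ⟨hQR, ?_⟩
  rw [inf_eq_right.2 hQR] at iM
  exact iM

end Coo

end Cfsg.Agent.H628.TF
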