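import Cfsg.Agent.H628.TF.Coords
import Cfsg.Agent.H659.TF.PosA
import Cfsg.Agent.H745.TF.EssStmts3

/-!
# S5262: the mixed case without the hypothesis on `Z4` (helper628)
-/

set_option autoImplicit false
set_option linter.unusedSimpArgs false

namespace Cfsg.Agent.H628.TF

open Cfsg Cfsg.Agent.H745.TF Cfsg.Agent.H181.TF Cfsg.Agent.H756.PU

universe u v

namespace Coo

variable {K : Type u} [Field K] {σ : K →+* K} {U : Type v} [Group U] {T : TF σ U} (C : Coo σ T)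

include C

/-- `C(E) = D` -/
theorem mem_D_iff {x : U} : x ∈ T.D ↔ ∀ e ∈ T.E, x * e = e * x := by
  constructor
  · intro hx e he
    obtain ⟨x1, x2, x6, x7, x8, x8'⟩ := (C.mem_D x).1 hx
    obtain ⟨h1, h2, h4, h6, h7, h8, h8'⟩ := (C.mem_E e).1 he
    apply C.inj
    rw [C.mul', C.mul']
    apply Cd.ext <;>
      simp only [mul, h1, h2, h4, h6, h7, h8, h8', x1, x2, x6, x7, x8, x8', map_zero, map_one, mul_zero, zero_mul,
        add_zero, zero_add, ne_eq, OfNat.ofNat_ne_zero, not_false_eq_true, zero_pow, add_comm]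
  · intro h
    have g1 : (C.co x).a1 = 0 := by
      obtain ⟨e, he, hce⟩ := C.exists_E 0 0 0 0 1
      obtain ⟨-, -, -, m4⟩ := C.comm_E he (h e he)
      simp only [hce, map_zero, mul_zero, zero_mul, add_zero, one_mul, zero_add] at m4
      exact m4.symm
    obtain ⟨g2, g8⟩ : (C.co x).a2 = 0 ∧ (C.co x).a8 = 0 := by
      obtain ⟨e, he, hce⟩ := C.exists_E 0 0 0 1 0
      obtain ⟨-, -, m6, m4⟩ := C.comm_E he (h e he)
      simp only [hce, map_zero, mul_zero, zero_mul, add_zero, one_mul, mul_one, zero_add] at m4 m6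
      exact ⟨m4.symm, m6⟩
    obtain ⟨g6, g8'⟩ : (C.co x).a6 = 0 ∧ (C.co x).b8 = 0 := by
      obtain ⟨e, he, hce⟩ := C.exists_E 0 1 0 0 0
      obtain ⟨-, -, m6, m4⟩ := C.comm_E he (h e he)
      simp only [hce, g8, map_zero, map_one, mul_zero, zero_mul, add_zero, one_mul, mul_one, zero_add] at m4 m6
      exact ⟨m4, m6⟩
    have g7 : (C.co x).a7 = 0 := by
      obtain ⟨e, he, hce⟩ := C.exists_E 1 0 0 0 0
      obtain ⟨-, -, -, m4⟩ := C.comm_E he (h e he)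
      simp only [hce, g8, g8', g6, g2, g1, map_zero, map_one, mul_zero, zero_mul, add_zero, one_mul, mul_one,
        zero_add] at m4
      exact m4
    exact (C.mem_D x).2 ⟨g1, g2, g6, g7, g8, g8'⟩

/-- the squares of `D` -/
theorem sq_D (two : (2 : K) = 0) {d : U} (hd : d ∈ T.D) : d * d ∈ T.Z4 := by
  obtain ⟨x1, x2, x6, x7, x8, x8'⟩ := (C.mem_D d).1 hd
  have t : ∀ x : K, x + x = 0 := fun x => by linear_combination x * two
  refine (C.mem_Z _).2 ?_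
  rw [C.mul']
  refine ⟨?_, ?_, ?_, ?_, ?_, ?_, ?_, ?_, ?_, ?_, ?_⟩ <;>
    simp only [mul, x1, x2, x6, x7, x8, x8', map_zero, mul_zero, zero_mul, add_zero, zero_add, ne_eq,
      OfNat.ofNat_ne_zero, not_false_eq_true, zero_pow, t]

theorem exists_sq_D [Finite K] (two : (2 : K) = 0) (hs : ∀ x, σ (σ x) = x ^ 2) {z : U} (hz : z ∈ T.Z4) :
    ∃ d ∈ T.D, d * d = z := by
  obtain ⟨r, hr⟩ := Cfsg.Agent.H659.TF.exists_sq two hs (C.co z).b4
  obtain ⟨d, hd⟩ := C.surj ⟨0, 0, 0, 0, r, 0, 0, 0, 0, 0, 0, 0⟩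
  have t : ∀ x : K, x + x = 0 := fun x => by linear_combination x * two
  obtain ⟨z1, z2, z2', z3, z4, z5, z6, z6', z7, z8, z8'⟩ := (C.mem_Z z).1 hz
  refine ⟨d, ?_, ?_⟩
  · rw [C.mem_D, hd]
    exact ⟨rfl, rfl, rfl, rfl, rfl, rfl⟩
  · apply C.inj
    rw [C.mul', hd]
    apply Cd.ext <;>
      simp only [mul, z1, z2, z2', z3, z4, z5, z6, z6', z7, z8, z8', hr, map_zero, mul_zero, zero_mul, add_zero,
        zero_add, ne_eq, OfNat.ofNat_ne_zero, not_false_eq_true, zero_pow, t]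

/-- `E` is invariant -/
theorem inv_E {m : ℕ} (hK : HypK σ m) {R : Subgroup U} {Γ : Subgroup (MulAut R)} (hE : Ess (⊤ : Subgroup U) R 2 Γ)
    (hD : T.D ≤ R) (hA : ¬ R ≤ T.QA) (hB : ¬ R ≤ T.QB) : Inv Γ T.E := by
  have := hK.fin
  have hfin : Finite U := by
    have := hE.fin
    exact Finite.of_equiv _ (Subgroup.topEquiv (G := U)).toEquiv
  have two := hK.two
  have hER : T.E ≤ R := C.E_le_D.trans hD
  refine ⟨hER, fun γ hγ => ?_⟩
  let F : Subgroup U := ((T.E.subgroupOf R).map γ.toMonoidHom).map R.subtype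
  have hF : ∀ x, x ∈ F ↔ ∃ e : R, (e : U) ∈ T.E ∧ ((γ e : R) : U) = x := by
    intro x
    constructor
    · rintro ⟨_, ⟨e, he, rfl⟩, rfl⟩
      exact ⟨e, Subgroup.mem_subgroupOf.1 he, rfl⟩
    · rintro ⟨e, he, rfl⟩
      exact ⟨γ e, ⟨e, Subgroup.mem_subgroupOf.2 he, rfl⟩, rfl⟩
  obtain ⟨x, hxD, hxE, hx2⟩ := C.exists_D
  have key : F ≤ T.E := by
    refine C.le_E (R := R) hER ?_ ?_ ?_ two ?_ hA hB (g := ((γ ⟨x, hD hxD⟩ : R) : U)) ?_ ?_
    · intro f hf g hg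
      obtain ⟨e, he, rfl⟩ := (hF f).1 hf
      obtain ⟨d, hd, rfl⟩ := (hF g).1 hg
      have h1 : e * d = d * e := Subtype.ext (C.comm_EE two he hd).1
      have h2 := congrArg γ h1
      rw [map_mul, map_mul] at h2
      exact congrArg Subtype.val h2
    · intro r hr f hf
      obtain ⟨e, he, rfl⟩ := (hF f).1 hf
      refine (hF _).2 ⟨(γ⁻¹ ⟨r, hr⟩)⁻¹ * e * γ⁻¹ ⟨r, hr⟩, ?_, ?_⟩
      · have h1 : (((γ⁻¹ ⟨r, hr⟩ : R)) : U) * ((((γ⁻¹ ⟨r, hr⟩ : R)) : U)⁻¹ * (e : U) * ((γ⁻¹ ⟨r, hr⟩ : R) : U)) =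
            (e : U) * ((γ⁻¹ ⟨r, hr⟩ : R) : U) := by group
        exact (C.conj_E he h1).1
      · rw [map_mul, map_mul, map_inv, MulAut.apply_inv_self]
        rfl
    · intro f hf
      obtain ⟨e, he, rfl⟩ := (hF f).1 hf
      have h1 : e * e = 1 := Subtype.ext (C.comm_EE two he he).2
      have h2 := congrArg γ h1
      rw [map_mul, map_one] at h2
      exact congrArg Subtype.val h2
    · rw [Subgroup.card_map_of_injective R.subtype_injective, Subgroup.card_map_of_injective γ.injective]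
      exact Nat.card_congr (Subgroup.subgroupOfEquivOfLe hER).toEquiv
    · intro f hf
      obtain ⟨e, he, rfl⟩ := (hF f).1 hf
      have h1 : (⟨x, hD hxD⟩ : R) * e = e * ⟨x, hD hxD⟩ := Subtype.ext (hxE e he)
      have h2 := congrArg γ h1
      rw [map_mul, map_mul] at h2
      exact congrArg Subtype.val h2
    · intro h1
      apply hx2
      have h2 : γ (⟨x, hD hxD⟩ * ⟨x, hD hxD⟩) = γ 1 := by
        rw [map_mul, map_one]
        exact Subtype.ext h1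
      exact congrArg Subtype.val (γ.injective h2)
  intro e he
  exact key ((hF _).2 ⟨e, he, rfl⟩)

/-- `Z4` is invariant -/
theorem inv_Z {m : ℕ} (hK : HypK σ m) {R : Subgroup U} {Γ : Subgroup (MulAut R)} (hE : Ess (⊤ : Subgroup U) R 2 Γ)
    (hD : T.D ≤ R) (hA : ¬ R ≤ T.QA) (hB : ¬ R ≤ T.QB) : Inv Γ T.Z4 := by
  have := hK.fin
  have two := hK.two
  have iE := C.inv_E hK hE hD hA hB
  refine ⟨C.Z_le_E.trans (C.E_le_D.trans hD), fun γ hγ z hz => ?_⟩
  obtain ⟨d, hd, hdz⟩ := C.exists_sq_D two hK.sq hz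
  have h1 : z = ⟨d, hD hd⟩ * ⟨d, hD hd⟩ := Subtype.ext hdz.symm
  have h2 : ((γ ⟨d, hD hd⟩ : R) : U) ∈ T.D := by
    rw [C.mem_D_iff] at hd ⊢
    intro e he
    have h3 := iE.2 _ (inv_mem hγ) ⟨e, iE.1 he⟩ he
    have h4 := hd _ h3
    have h5 : (⟨d, hD ((C.mem_D_iff).2 hd)⟩ : R) * γ⁻¹ ⟨e, iE.1 he⟩ = γ⁻¹ ⟨e, iE.1 he⟩ * ⟨d, hD ((C.mem_D_iff).2 hd)⟩ :=
      Subtype.ext h4
    have h6 := congrArg γ h5
    rw [map_mul, map_mul, MulAut.apply_inv_self] at h6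
    exact congrArg Subtype.val h6
  rw [h1, map_mul]
  exact C.sq_D two h2

end Coo

/-- **S5262: the mixed case, all `q`, no hypothesis on `Z4`.** -/
theorem stMixF : StMixF.{u, v} := by
  intro K _ σ m hK U _ T R Γ hE hD hA hB
  obtain ⟨C⟩ := exists_coo hK T
  exact C.mix_of hK hE (C.inv_Z hK hE hD hA hB) hD hA hB

end Cfsg.Agent.H628.TF
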